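import Mathlib

/-!
A map of algebras into a flat algebra which is bijective modulo a nilpotent ideal of the base is
bijective.
-/

set_option autoImplicit false

universe u

namespace Groth.Agent.GrpLawLift

variable {R N M : Type u} [CommRing R] [CommRing N] [CommRing M] [Algebra R N] [Algebra R M]

theorem bijective_of_nilpotent {I : Ideal R} (hI : IsNilpotent I) (φ : N →ₐ[R] M) [Module.Flat R M]
    (hs : ∀ m : M, ∃ n : N, m - φ n ∈ (I • ⊤ : Submodule R M))
    (hi : ∀ n : N, φ n ∈ (I • ⊤ : Submodule R M) → n ∈ (I • ⊤ : Submodule R N)) :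
    Function.Bijective φ := by
  classical
  obtain ⟨k, hk⟩ := hI
  have hsurj : Function.Surjective φ := by
    have h : ∀ j : ℕ, (⊤ : Submodule R M) ≤ LinearMap.range φ.toLinearMap ⊔ (I ^ j) • ⊤ := by
      intro j
      induction j with
      | zero => exact le_sup_of_le_right (by rw [pow_zero, Ideal.one_eq_top, Submodule.top_smul])
      | succ j ih =>
        have h1 : (I • ⊤ : Submodule R M) ≤ LinearMap.range φ.toLinearMap ⊔ (I ^ (j + 1)) • ⊤ := by
          refine (Submodule.smul_mono le_rfl ih).trans ?_
          rw [Submodule.smul_sup, pow_succ', ← smul_eq_mul, Submodule.smul_assoc]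
          exact sup_le_sup_right Submodule.smul_le_right _
        intro m _
        obtain ⟨n, hn⟩ := hs m
        rw [show m = φ n + (m - φ n) by ring]
        exact Submodule.add_mem _ (Submodule.mem_sup_left ⟨n, rfl⟩) (h1 hn)
    intro m
    have := h k (Submodule.mem_top (x := m))
    rw [hk, Ideal.zero_eq_bot, Submodule.bot_smul, sup_bot_eq] at this
    exact this
  refine ⟨?_, hsurj⟩
  let K : Submodule R N := LinearMap.ker φ.toLinearMap
  have hK : K ≤ I • K := by
    intro z hz
    have hzI : z ∈ (I • ⊤ : Submodule R N) := hi z (by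
      rw [show φ z = 0 from hz]; exact Submodule.zero_mem _)
    -- write `z` as a finite combination
    obtain ⟨l, r, x, hr, rfl⟩ : ∃ (l : ℕ) (r : Fin l → R) (x : Fin l → N),
        (∀ i, r i ∈ I) ∧ ∑ i, r i • x i = z := by
      clear hz
      refine Submodule.smul_induction_on hzI ?_ ?_
      · exact fun a ha n _ => ⟨1, fun _ => a, fun _ => n, fun _ => ha, by simp⟩
      · intro a b ha hb
        obtain ⟨l₁, r₁, x₁, h₁, e₁⟩ := ha
        obtain ⟨l₂, r₂, x₂, h₂, e₂⟩ := hb
        refine ⟨l₁ + l₂, Fin.append r₁ r₂, Fin.append x₁ x₂, fun i => ?_, ?_⟩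
        · induction i using Fin.addCases <;> simp [h₁, h₂]
        · rw [Fin.sum_univ_add]; simp [e₁, e₂]
    have h0 : ∑ i, r i • φ (x i) = 0 := by
      have : φ (∑ i, r i • x i) = 0 := hz
      rwa [map_sum, Finset.sum_congr rfl fun i _ => map_smul φ (r i) (x i)] at this
    obtain ⟨κ, a, y, hy, ha⟩ := Module.Flat.isTrivialRelation_of_sum_smul_eq_zero (M := M) (f := r) (x := fun i => φ (x i)) h0
    choose w hw using fun j => hsurj (y j)
    have hmem : ∀ i, x i - ∑ j, a i j • w j ∈ K := fun i => by
      show φ (x i - ∑ j, a i j • w j) = 0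
      rw [map_sub, map_sum, Finset.sum_congr rfl fun j _ => map_smul φ (a i j) (w j), show φ (x i) = _ from hy i, sub_eq_zero]
      exact Finset.sum_congr rfl fun j _ => by rw [hw]
    have e : ∑ i, r i • x i = ∑ i, r i • (x i - ∑ j, a i j • w j) := by
      simp only [smul_sub, Finset.sum_sub_distrib, Finset.smul_sum, smul_smul]
      have hzero : ∑ i, ∑ j, (r i * a i j) • w j = 0 := by
        rw [Finset.sum_comm]
        refine Finset.sum_eq_zero fun j _ => ?_
        rw [← Finset.sum_smul, ha j, zero_smul]
      rw [hzero, sub_zero]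
    rw [e]
    exact Submodule.sum_mem _ fun i _ => Submodule.smul_mem_smul (hr i) (hmem i)
  have hKn : ∀ j : ℕ, K ≤ (I ^ j) • K := by
    intro j
    induction j with
    | zero => rw [pow_zero, Ideal.one_eq_top, Submodule.top_smul]
    | succ j ih =>
      refine hK.trans ((Submodule.smul_mono le_rfl ih).trans_eq ?_)
      rw [pow_succ', ← smul_eq_mul, Submodule.smul_assoc]
  rw [injective_iff_map_eq_zero]
  intro z hz
  have := hKn k (show z ∈ K from hz)
  rwa [hk, Ideal.zero_eq_bot, Submodule.bot_smul, Submodule.mem_bot] at this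

end Groth.Agent.GrpLawLift
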