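import Mathlib
import Groth.Agent.GrpLawLift.Alg
import Groth.Agent.NilAffine.Main

/-!
Morphisms of flat schemes which are isomorphisms modulo a nilpotent ideal of the base.
-/

set_option autoImplicit false
set_option backward.isDefEq.respectTransparency false
set_option backward.isDefEq.respectTransparency.types false
set_option linter.style.haveILetI false

universe u

open CategoryTheory Limits AlgebraicGeometry TensorProduct

namespace Groth.Agent.GrpLawLift

variable {R : Type u} [CommRing R] {I : Ideal R}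

theorem surjective_quot (hI : IsNilpotent I) :
    Surjective (Spec.map (CommRingCat.ofHom (Ideal.Quotient.mk I))) := by
  obtain ⟨k, hk⟩ := hI
  refine ⟨fun p => ?_⟩
  have hle : I ≤ p.asIdeal := Ideal.IsPrime.le_of_pow_le (I := I) (n := k) (hk ▸ bot_le)
  have hmem : p ∈ Set.range (PrimeSpectrum.comap (Ideal.Quotient.mk I)) := by
    rw [range_comap_of_surjective _ _ Ideal.Quotient.mk_surjective, Ideal.mk_ker]
    exact hle
  exact hmem

theorem isClosedImmersion_quot :
    IsClosedImmersion (Spec.map (CommRingCat.ofHom (Ideal.Quotient.mk I))) :=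
  IsClosedImmersion.spec_of_surjective _ Ideal.Quotient.mk_surjective

/-- The affine case. -/
theorem isIso_specMap (hI : IsNilpotent I) {N M : Type u} [CommRing N] [CommRing M] [Algebra R N]
    [Algebra R M] [Module.Flat R M] (φ : N →ₐ[R] M)
    (h : IsIso (pullback.snd (Spec.map (CommRingCat.ofHom φ.toRingHom))
      (Spec.map (CommRingCat.ofHom (Ideal.Quotient.mk (I.map (algebraMap R N))))))) :
    IsIso (Spec.map (CommRingCat.ofHom φ.toRingHom)) := by
  letI := φ.toRingHom.toAlgebra
  set J := I.map (algebraMap R N)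
  let ρ : N ⧸ J →+* M ⊗[N] (N ⧸ J) :=
    (Algebra.TensorProduct.includeRight : N ⧸ J →ₐ[N] M ⊗[N] (N ⧸ J)).toRingHom
  have hsnd : pullback.snd (Spec.map (CommRingCat.ofHom φ.toRingHom))
      (Spec.map (CommRingCat.ofHom (Ideal.Quotient.mk J))) =
        (pullbackSpecIso N M (N ⧸ J)).hom ≫ Spec.map (CommRingCat.ofHom ρ) := by
    rw [← Iso.inv_comp_eq]
    exact pullbackSpecIso_inv_snd N M (N ⧸ J)
  haveI : IsIso (Spec.map (CommRingCat.ofHom ρ)) := by
    rw [hsnd] at h
    exact IsIso.of_isIso_comp_left (pullbackSpecIso N M (N ⧸ J)).hom _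
  have hρ : Function.Bijective ρ := (isIso_SpecMap_iff (f := CommRingCat.ofHom ρ)).1 ‹_›
  let e := Algebra.TensorProduct.quotIdealMapEquivTensorQuot (A := N) M J
  have hJM : J.map (algebraMap N M) = I.map (algebraMap R M) := by
    rw [Ideal.map_map]
    congr 1
    exact RingHom.ext fun r => φ.commutes r
  have he : ∀ n : N, e (Ideal.Quotient.mk _ (φ n)) = ρ (Ideal.Quotient.mk J n) := fun n => by
    show (φ n) ⊗ₜ[N] (1 : N ⧸ J) = (1 : M) ⊗ₜ[N] (Ideal.Quotient.mk J n)
    rw [show φ n = n • (1 : M) from (mul_one _).symm, TensorProduct.smul_tmul, Algebra.smul_def,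
      mul_one]
    rfl
  have hmM : ∀ m : M, m ∈ (I • ⊤ : Submodule R M) ↔ m ∈ J.map (algebraMap N M) := fun m => by
    rw [hJM, Ideal.smul_top_eq_map]; rfl
  have hmN : ∀ n : N, n ∈ (I • ⊤ : Submodule R N) ↔ n ∈ J := fun n => by
    rw [Ideal.smul_top_eq_map]; rfl
  have hb := bijective_of_nilpotent hI φ
    (fun m => by
      obtain ⟨x, hx⟩ := hρ.2 (e (Ideal.Quotient.mk _ m))
      obtain ⟨n, rfl⟩ := Ideal.Quotient.mk_surjective x
      refine ⟨n, (hmM _).2 (Ideal.Quotient.eq.1 (e.injective ?_))⟩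
      rw [he, hx])
    (fun n hn => by
      have h1 : e (Ideal.Quotient.mk _ (φ n)) = 0 := by
        rw [Ideal.Quotient.eq_zero_iff_mem.2 ((hmM _).1 hn), map_zero]
      rw [he] at h1
      exact (hmN n).2 (Ideal.Quotient.eq_zero_iff_mem.1 (hρ.1 (h1.trans (map_zero ρ).symm))))
  haveI : IsIso (CommRingCat.ofHom φ.toRingHom) :=
    (ConcreteCategory.isIso_iff_bijective _).2 hb
  infer_instance

variable (hI : IsNilpotent I) {A B : Over (Spec (CommRingCat.of R))} (f : A ⟶ B)

include hI in
/-- A morphism of flat schemes which is an isomorphism modulo a nilpotent ideal is an isomorphism. -/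
theorem isIso_left_of_nilpotent [Flat A.hom]
    [IsIso ((Over.pullback (Spec.map (CommRingCat.ofHom (Ideal.Quotient.mk I)))).map f)] :
    IsIso f.left := by
  let j := Spec.map (CommRingCat.ofHom (Ideal.Quotient.mk I))
  haveI : Surjective j := surjective_quot hI
  haveI : IsClosedImmersion j := isClosedImmersion_quot
  let g := ((Over.pullback j).map f).left
  haveI : IsIso g := inferInstanceAs (IsIso ((Over.forget _).map ((Over.pullback j).map f)))
  let pA := pullback.fst A.hom j
  let pB := pullback.fst B.hom j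
  have hg₁ : g ≫ pB = pA ≫ f.left := by simp [g, pA, pB]
  have hg₂ : g ≫ pullback.snd B.hom j = pullback.snd A.hom j := by simp [g]
  have hsq : IsPullback pA g f.left pB := by
    refine IsPullback.of_bot (h₃₁ := j) (v₂₁ := pullback.snd B.hom j) (v₂₂ := B.hom) ?_ hg₁.symm
      (IsPullback.of_hasPullback B.hom j)
    rw [hg₂, Over.w f]
    exact IsPullback.of_hasPullback A.hom j
  haveI : IsAffineHom f.left := by
    haveI : IsAffineHom (pA ≫ f.left) := by rw [← hg₁]; infer_instance
    exact NilAffine.isAffineHom_of_comp pA f.left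
  show MorphismProperty.isomorphisms Scheme f.left
  rw [IsZariskiLocalAtTarget.iff_of_openCover (P := MorphismProperty.isomorphisms Scheme) B.left.affineCover]
  intro i
  show IsIso (pullback.snd f.left (B.left.affineCover.f i))
  set c := B.left.affineCover.f i
  set f' := pullback.snd f.left c
  haveI : IsAffine (B.left.affineCover.X i) := inferInstance
  haveI : IsAffine (pullback f.left c) := isAffine_of_isAffineHom f'
  let X := pullback f.left c
  let Y := B.left.affineCover.X i
  let ψ := Y.isoSpec.inv ≫ c ≫ B.hom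
  obtain ⟨αN, hαN⟩ := Spec.map_surjective ψ
  let φ₀ := f'.appTop
  have hnat : Spec.map φ₀ = X.isoSpec.inv ≫ f' ≫ Y.isoSpec.hom := by
    rw [Iso.eq_inv_comp, Scheme.isoSpec_hom_naturality]
  haveI : IsIso (Spec.map φ₀) → IsIso f' := fun h => by
    have : f' = X.isoSpec.hom ≫ Spec.map φ₀ ≫ Y.isoSpec.inv := by
      rw [hnat]; simp
    rw [this]; infer_instance
  refine this ?_
  letI : Algebra R Γ(Y, ⊤) := αN.hom.toAlgebra
  letI : Algebra R Γ(X, ⊤) := (φ₀.hom.comp αN.hom).toAlgebra
  let φ : Γ(Y, ⊤) →ₐ[R] Γ(X, ⊤) := { φ₀.hom with commutes' := fun r => rfl }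
  haveI : Flat (Spec.map (αN ≫ φ₀)) := by
    rw [Spec.map_comp, hαN, hnat]
    have e : (X.isoSpec.inv ≫ f' ≫ Y.isoSpec.hom) ≫ ψ =
        X.isoSpec.inv ≫ pullback.fst f.left c ≫ A.hom := by
      simp only [ψ, f', Category.assoc, Iso.hom_inv_id_assoc]
      rw [← reassoc_of% (pullback.condition (f := f.left) (g := c)), Over.w f]
    rw [e]
    infer_instance
  haveI : Module.Flat R Γ(X, ⊤) := by
    have h := (HasRingHomProperty.Spec_iff (P := @Flat)).1 ‹Flat (Spec.map (αN ≫ φ₀))›
    exact RingHom.flat_algebraMap_iff.1 h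
  refine isIso_specMap hI φ ?_
  let q := CommRingCat.ofHom (Ideal.Quotient.mk (I.map (algebraMap R Γ(Y, ⊤))))
  let u := Spec.map q ≫ Y.isoSpec.inv ≫ c
  have hu : u ≫ B.hom = Spec.map (CommRingCat.ofHom (Ideal.quotientMap (I.map (algebraMap R Γ(Y, ⊤)))
      (algebraMap R Γ(Y, ⊤)) Ideal.le_comap_map)) ≫ j := by
    show (Spec.map q ≫ Y.isoSpec.inv ≫ c) ≫ B.hom = _
    rw [Category.assoc, Category.assoc, show Y.isoSpec.inv ≫ c ≫ B.hom = Spec.map αN from hαN.symm,
      ← Spec.map_comp, ← Spec.map_comp]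
    congr 1
  let u₀ := pullback.lift u _ hu
  have hu₀ : u₀ ≫ pB = u := pullback.lift_fst _ _ _
  have h1 : MorphismProperty.isomorphisms Scheme (pullback.snd f.left u) := by
    have hu' : IsPullback (pullback.fst g u₀ ≫ pA) (pullback.snd g u₀) f.left (u₀ ≫ pB) :=
      (IsPullback.of_hasPullback g u₀).paste_horiz hsq
    rw [hu₀] at hu'
    haveI : IsIso (pullback.snd g u₀) := inferInstance
    rw [show pullback.snd f.left u = hu'.isoPullback.inv ≫ pullback.snd g u₀ from
      (hu'.isoPullback_inv_snd).symm]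
    exact inferInstanceAs (IsIso _)
  have hbig : IsPullback (X.isoSpec.inv ≫ pullback.fst f.left c) (Spec.map φ₀) f.left
      (Y.isoSpec.inv ≫ c) := by
    refine IsPullback.paste_horiz (IsPullback.of_horiz_isIso ⟨?_⟩) (IsPullback.of_hasPullback f.left c)
    rw [hnat]; simp [f']
  have hbig' := (IsPullback.of_hasPullback (Spec.map φ₀) (Spec.map q)).paste_horiz hbig
  haveI : IsIso (pullback.snd f.left u) := h1
  show IsIso (pullback.snd (Spec.map φ₀) (Spec.map q))
  rw [← hbig'.isoPullback_hom_snd]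
  infer_instance

end Groth.Agent.GrpLawLift
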