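import Mathlib
import Groth.Agent.GrpLawLift.Basic

/-!
An associative law which is a group law modulo a nilpotent ideal of the base is a group law.
-/

set_option autoImplicit false
set_option backward.isDefEq.respectTransparency false
set_option backward.isDefEq.respectTransparency.types false
set_option linter.style.haveILetI false

universe u v w

open CategoryTheory MonoidalCategory CartesianMonoidalCategory MonObj AlgebraicGeometry

namespace Groth.Agent.GrpLawLift

section Law

variable {C : Type v} [Category.{w} C] [CartesianMonoidalCategory C] {X : C} (P : X ⊗ X ⟶ X)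

/-- The law on points. -/
abbrev op {T : C} (x y : T ⟶ X) : T ⟶ X := lift x y ≫ P

theorem op_comp {T T' : C} (s : T' ⟶ T) (x y : T ⟶ X) : s ≫ op P x y = op P (s ≫ x) (s ≫ y) := by
  rw [op, op, comp_lift_assoc]

theorem op_assoc (h : (P ▷ X) ≫ P = (α_ X X X).hom ≫ (X ◁ P) ≫ P) {T : C} (x y z : T ⟶ X) :
    op P (op P x y) z = op P x (op P y z) := by
  have h' := congrArg (lift (lift x y) z ≫ ·) h
  simpa using h'

/-- The inverse of the shear `(a, b) ↦ (a, ab)` of a group object. -/
theorem isIso_shear {G : C} [GrpObj G] : IsIso (lift (fst G G) μ[G] : G ⊗ G ⟶ G ⊗ G) := by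
  refine ⟨lift (fst G G) ((fst G G)⁻¹ * snd G G), ?_, ?_⟩
  · rw [← lift_fst_snd]
    refine CartesianMonoidalCategory.hom_ext _ _ ?_ ?_
    · simp
    · rw [Category.assoc, lift_snd, MonObj.mul_eq_mul, MonObj.comp_mul, GrpObj.comp_inv,
        lift_fst, lift_snd, inv_mul_cancel_left, lift_snd]
  · rw [← lift_fst_snd]
    refine CartesianMonoidalCategory.hom_ext _ _ ?_ ?_
    · simp
    · simp [MonObj.mul_eq_mul, MonObj.comp_mul]

/-- The inverse of the shear `(a, b) ↦ (ab, b)` of a group object. -/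
theorem isIso_shear' {G : C} [GrpObj G] : IsIso (lift μ[G] (snd G G) : G ⊗ G ⟶ G ⊗ G) := by
  refine ⟨lift (fst G G * (snd G G)⁻¹) (snd G G), ?_, ?_⟩
  · rw [← lift_fst_snd]
    refine CartesianMonoidalCategory.hom_ext _ _ ?_ ?_
    · simp [MonObj.mul_eq_mul, MonObj.comp_mul, GrpObj.comp_inv]
    · simp
  · rw [← lift_fst_snd]
    refine CartesianMonoidalCategory.hom_ext _ _ ?_ ?_
    · simp [MonObj.mul_eq_mul, MonObj.comp_mul]
    · simp

variable [IsIso (lift (fst X X) P)] [IsIso (lift P (snd X X))]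

theorem op_left_cancel {T : C} {x y y' : T ⟶ X} (h : op P x y = op P x y') : y = y' := by
  have : lift x y ≫ lift (fst X X) P = lift x y' ≫ lift (fst X X) P := by
    simp only [comp_lift, lift_fst]; rw [show lift x y ≫ P = _ from h]
  have := congrArg (· ≫ snd X X) ((cancel_mono _).1 this)
  simpa using this

theorem op_right_cancel {T : C} {x x' y : T ⟶ X} (h : op P x y = op P x' y) : x = x' := by
  have : lift x y ≫ lift P (snd X X) = lift x' y ≫ lift P (snd X X) := by
    simp only [comp_lift, lift_snd]; rw [show lift x y ≫ P = _ from h]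
  have := congrArg (· ≫ fst X X) ((cancel_mono _).1 this)
  simpa using this

theorem exists_op_eq {T : C} (x z : T ⟶ X) : ∃ y, op P x y = z := by
  refine ⟨lift x z ≫ inv (lift (fst X X) P) ≫ snd X X, ?_⟩
  have h1 : inv (lift (fst X X) P) ≫ fst X X = fst X X :=
    (IsIso.inv_comp_eq _).2 (by simp)
  have h2 : lift x (lift x z ≫ inv (lift (fst X X) P) ≫ snd X X) =
      lift x z ≫ inv (lift (fst X X) P) :=
    CartesianMonoidalCategory.hom_ext _ _ (by simp [h1]) (by simp)
  have h3 : inv (lift (fst X X) P) ≫ P = snd X X := (IsIso.inv_comp_eq _).2 (by simp)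
  rw [op, h2, Category.assoc, h3, lift_snd]

variable (hass : (P ▷ X) ≫ P = (α_ X X X).hom ≫ (X ◁ P) ≫ P)

include hass in
/-- A right unit for the identity point is a unit for every point. -/
theorem unit_of_op_id {e : X ⟶ X} (he : op P (𝟙 X) e = 𝟙 X) {T : C} (x y : T ⟶ X) :
    op P (x ≫ e) y = y ∧ op P y (x ≫ e) = y := by
  have h0 : op P x (x ≫ e) = x := by
    have := congrArg (x ≫ ·) he
    simpa [op_comp] using this
  have h1 : ∀ z : T ⟶ X, op P (x ≫ e) z = z := fun z =>
    op_left_cancel P (x := x) (by rw [← op_assoc P hass, h0])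
  refine ⟨h1 y, op_right_cancel P (y := x ≫ e) ?_⟩
  rw [op_assoc P hass, h1]

include hass in
theorem unit_comp_eq {e : X ⟶ X} (he : op P (𝟙 X) e = 𝟙 X) {T : C} (x x' : T ⟶ X) :
    x ≫ e = x' ≫ e := by
  have h1 := (unit_of_op_id P hass he x (x' ≫ e)).1
  have h2 := (unit_of_op_id P hass he x' (x ≫ e)).2
  exact h2.symm.trans h1

include hass in
theorem exists_grpObj (η₀ : 𝟙_ C ⟶ X) (he : op P (𝟙 X) (toUnit X ≫ η₀) = 𝟙 X) :
    ∃ _ : GrpObj X, μ[X] = P := by
  set e := toUnit X ≫ η₀
  have hu := fun {T : C} (x y : T ⟶ X) => unit_of_op_id P hass he x y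
  obtain ⟨v, hv⟩ := exists_op_eq P (𝟙 X) e
  have hv' : op P v (𝟙 X) = e := by
    refine op_right_cancel P (y := v) ?_
    rw [op_assoc P hass, hv]
    have h1 := (hu (𝟙 X) v).1
    have h2 := (hu (𝟙 X) v).2
    rw [Category.id_comp] at h1 h2
    rw [h1, h2]
  letI M : MonObj X :=
    { one := η₀
      mul := P
      one_mul := by
        have h1 : η₀ ▷ X = lift (snd (𝟙_ C) X ≫ e) (snd (𝟙_ C) X) :=
          CartesianMonoidalCategory.hom_ext _ _ (by
            simp only [whiskerRight_fst, lift_fst, e, ← Category.assoc]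
            congr 1
            exact toUnit_unique _ _) (by simp)
        rw [h1, leftUnitor_hom]
        exact (hu (snd (𝟙_ C) X) (snd (𝟙_ C) X)).1
      mul_one := by
        have h1 : X ◁ η₀ = lift (fst X (𝟙_ C)) (fst X (𝟙_ C) ≫ e) :=
          CartesianMonoidalCategory.hom_ext _ _ (by simp) (by
            simp only [whiskerLeft_snd, lift_snd, e, ← Category.assoc]
            congr 1
            exact toUnit_unique _ _)
        rw [h1, rightUnitor_hom]
        exact (hu (fst X (𝟙_ C)) (fst X (𝟙_ C))).2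
      mul_assoc := hass }
  exact ⟨{ inv := v, left_inv := hv', right_inv := hv }, rfl⟩

end Law

/-- The main statement. -/
theorem main (R : Type u) [CommRing R] (I : Ideal R)
    (hI : IsNilpotent I) (X : Over (Spec (CommRingCat.of R))) [Flat X.hom]
    (hX : QuasiCompact X.hom ∨ LocallyOfFinitePresentation X.hom) (P : X ⊗ X ⟶ X)
    (hassoc : (P ▷ X) ≫ P = (α_ X X X).hom ≫ (X ◁ P) ≫ P)
    (h0 : ∃ _ : GrpObj ((Over.pullback (Spec.map (CommRingCat.ofHom (Ideal.Quotient.mk I)))).obj X),
      μ[(Over.pullback (Spec.map (CommRingCat.ofHom (Ideal.Quotient.mk I)))).obj X] =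
        Functor.LaxMonoidal.μ (Over.pullback (Spec.map (CommRingCat.ofHom (Ideal.Quotient.mk I)))) X X ≫ (Over.pullback (Spec.map (CommRingCat.ofHom (Ideal.Quotient.mk I)))).map P) :
    ∃ _ : GrpObj X, μ[X] = P := by
  obtain ⟨G, hG⟩ := h0
  let j := Spec.map (CommRingCat.ofHom (Ideal.Quotient.mk I))
  let F := Over.pullback j
  haveI : Flat (X ⊗ X).hom := by rw [Over.tensorObj_hom]; infer_instance
  have hiso : ∀ (Φ : X ⊗ X ⟶ X ⊗ X) (Φ₀ : F.obj X ⊗ F.obj X ⟶ F.obj X ⊗ F.obj X),
      Functor.LaxMonoidal.μ F X X ≫ F.map Φ = Φ₀ ≫ Functor.LaxMonoidal.μ F X X →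
        IsIso Φ₀ → IsIso Φ := fun Φ Φ₀ h _ => by
    haveI : IsIso (F.map Φ) := by
      rw [(IsIso.eq_inv_comp (Functor.LaxMonoidal.μ F X X)).2 h]
      infer_instance
    haveI : IsIso ((Over.forget _).map Φ) := isIso_left_of_nilpotent hI Φ
    exact isIso_of_reflects_iso Φ (Over.forget _)
  haveI : IsIso (lift (fst X X) P) := by
    refine hiso _ (lift (fst _ _) μ[F.obj X]) ?_ isIso_shear
    rw [← cancel_mono (Functor.OplaxMonoidal.δ F X X)]
    refine CartesianMonoidalCategory.hom_ext _ _ ?_ ?_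
    · simp only [Category.assoc, Functor.Monoidal.μ_δ, Category.comp_id, lift_fst,
        Functor.OplaxMonoidal.δ_fst, ← Functor.map_comp, Functor.Monoidal.μ_fst]
    · simp only [Category.assoc, Functor.Monoidal.μ_δ, Category.comp_id, lift_snd,
        Functor.OplaxMonoidal.δ_snd, ← Functor.map_comp]
      exact hG.symm
  haveI : IsIso (lift P (snd X X)) := by
    refine hiso _ (lift μ[F.obj X] (snd _ _)) ?_ isIso_shear'
    rw [← cancel_mono (Functor.OplaxMonoidal.δ F X X)]
    refine CartesianMonoidalCategory.hom_ext _ _ ?_ ?_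
    · simp only [Category.assoc, Functor.Monoidal.μ_δ, Category.comp_id, lift_fst,
        Functor.OplaxMonoidal.δ_fst, ← Functor.map_comp]
      exact hG.symm
    · simp only [Category.assoc, Functor.Monoidal.μ_δ, Category.comp_id, lift_snd,
        Functor.OplaxMonoidal.δ_snd, ← Functor.map_comp, Functor.Monoidal.μ_snd]
  obtain ⟨e, he⟩ := exists_op_eq P (𝟙 X) (𝟙 X)
  haveI : Surjective X.hom := by
    haveI : Surjective j := surjective_quot hI
    refine ⟨fun s => ?_⟩
    obtain ⟨s₀, rfl⟩ := Surjective.surj (f := j) s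
    let z : ↥(F.obj X).left := η[F.obj X].left.base s₀
    refine ⟨(Limits.pullback.fst X.hom j).base z, ?_⟩
    have h2 : (Limits.pullback.snd X.hom j).base z = s₀ := by
      have := Over.w η[F.obj X]
      exact congrArg (fun (q : (𝟙_ (Over (Spec (CommRingCat.of (R ⧸ I))))).left ⟶
        Spec (CommRingCat.of (R ⧸ I))) => q.base s₀) this
    rw [← Scheme.Hom.comp_apply, Limits.pullback.condition, Scheme.Hom.comp_apply, h2]
  haveI : EffectiveEpi X.hom := by rcases hX with h | h <;> infer_instance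
  have hcoh : ∀ {Z : Scheme.{u}} (g₁ g₂ : Z ⟶ X.left), g₁ ≫ X.hom = g₂ ≫ X.hom →
      g₁ ≫ e.left = g₂ ≫ e.left := by
    intro Z g₁ g₂ h
    have := unit_comp_eq P hassoc he
      (Over.homMk g₁ : Over.mk (g₁ ≫ X.hom) ⟶ X)
      (Over.homMk g₂ h.symm : Over.mk (g₁ ≫ X.hom) ⟶ X)
    exact congrArg CommaMorphism.left this
  let d := EffectiveEpi.desc X.hom e.left (fun g₁ g₂ h => hcoh g₁ g₂ h)
  have hd : X.hom ≫ d = e.left := EffectiveEpi.fac X.hom e.left _
  have hd2 : d ≫ X.hom = 𝟙 _ := by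
    rw [← cancel_epi X.hom, ← Category.assoc, hd, Over.w e, Category.comp_id]
  let η₀ : 𝟙_ (Over (Spec (CommRingCat.of R))) ⟶ X := Over.homMk d hd2
  refine exists_grpObj P hassoc η₀ ?_
  have h : toUnit X ≫ η₀ = e := Over.OverMorphism.ext (by
    simp only [Over.comp_left, Over.toUnit_left]
    exact hd)
  rw [h]; exact he

end Groth.Agent.GrpLawLift
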